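import Mathlib

/-!
# Filtered group algebras and the Engel identity for exponent `p`

For a central filtration `N` of `Q` the powers of the augmentation ideal are bounded by the
weight spaces `W`; these can be peeled off one cyclic layer at a time. In exponent `p` the
iterated commutator `[b, x, …, x]` (`p - 1` times) lies in the `(p + 1)`-st weight space.
-/

set_option autoImplicit false
set_option linter.style.haveILetI false

namespace CfsgLib.MaxClassAgemo

open MonoidAlgebra
open scoped commutatorElement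

variable (p : ℕ) {Q : Type*} [Group Q]

/-- The group algebra over the prime field. -/
noncomputable abbrev Alg (Q : Type*) := MonoidAlgebra (ZMod p) Q

/-- `g - 1`. -/
noncomputable def dl (g : Q) : Alg p Q := MonoidAlgebra.of (ZMod p) Q g - 1

/-- The weight spaces. -/
noncomputable def W (N : ℕ → Subgroup Q) (H : Subgroup Q) (m : ℕ) : Submodule (ZMod p) (Alg p Q) :=
  Submodule.span (ZMod p) {a | ∃ l : List (Q × ℕ),
    (∀ t ∈ l, t.1 ∈ H ∧ t.1 ∈ N t.2 ∧ 1 ≤ t.2) ∧ m ≤ (l.map Prod.snd).sum ∧
      a = (l.map fun t => dl p t.1).prod}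

variable {p} {N : ℕ → Subgroup Q}

theorem dl_one : dl p (1 : Q) = 0 := by rw [dl, map_one, sub_self]

theorem of_eq (g : Q) : MonoidAlgebra.of (ZMod p) Q g = dl p g + 1 := by rw [dl, sub_add_cancel]

theorem W_anti {H : Subgroup Q} {m m' : ℕ} (h : m ≤ m') : W p N H m' ≤ W p N H m :=
  Submodule.span_mono fun _ ⟨l, h1, h2, h3⟩ => ⟨l, h1, h.trans h2, h3⟩

theorem W_mono {H K : Subgroup Q} (h : H ≤ K) (m : ℕ) : W p N H m ≤ W p N K m :=
  Submodule.span_mono fun _ ⟨l, h1, h2, h3⟩ =>
    ⟨l, fun t ht => ⟨h (h1 t ht).1, (h1 t ht).2⟩, h2, h3⟩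

theorem dl_mem {H : Subgroup Q} {g : Q} {a : ℕ} (hg : g ∈ H) (hga : g ∈ N a) (ha : 1 ≤ a) :
    dl p g ∈ W p N H a :=
  Submodule.subset_span ⟨[(g, a)], by simp [hg, hga, ha], by simp, by simp⟩

theorem one_mem_W (H : Subgroup Q) : (1 : Alg p Q) ∈ W p N H 0 :=
  Submodule.subset_span ⟨[], by simp, by simp, by simp⟩

theorem mul_mem_W {H : Subgroup Q} {a b : ℕ} {y z : Alg p Q} (hy : y ∈ W p N H a)
    (hz : z ∈ W p N H b) : y * z ∈ W p N H (a + b) := by
  induction hy using Submodule.span_induction with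
  | mem y hy =>
    induction hz using Submodule.span_induction with
    | mem z hz =>
      obtain ⟨l, h1, h2, rfl⟩ := hy
      obtain ⟨l', h1', h2', rfl⟩ := hz
      refine Submodule.subset_span ⟨l ++ l', fun t ht => ?_, ?_, by simp⟩
      · rcases List.mem_append.1 ht with h | h
        exacts [h1 t h, h1' t h]
      · simp only [List.map_append, List.sum_append]; omega
    | zero => rw [mul_zero]; exact zero_mem _
    | add u v _ _ hu hv => rw [mul_add]; exact add_mem hu hv
    | smul r u _ hu => rw [mul_smul_comm]; exact Submodule.smul_mem _ r hu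
  | zero => rw [zero_mul]; exact zero_mem _
  | add u v _ _ hu hv => rw [add_mul]; exact add_mem hu hv
  | smul r u _ hu => rw [smul_mul_assoc]; exact Submodule.smul_mem _ r hu

theorem pow_mem_W {H : Subgroup Q} {a : ℕ} {y : Alg p Q} (hy : y ∈ W p N H a) :
    ∀ e, y ^ e ∈ W p N H (e * a)
  | 0 => by rw [pow_zero, zero_mul]; exact one_mem_W H
  | e + 1 => by rw [pow_succ, Nat.succ_mul]; exact mul_mem_W (pow_mem_W hy e) hy

theorem of_mem_W {H : Subgroup Q} {g : Q} (hg : g ∈ H) (h1 : ∀ q : Q, q ∈ N 1) :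
    MonoidAlgebra.of (ZMod p) Q g ∈ W p N H 0 := by
  rw [of_eq]
  exact add_mem (W_anti (Nat.zero_le 1) (dl_mem hg (h1 g) le_rfl)) (one_mem_W H)

theorem W_bot {m : ℕ} (hm : 1 ≤ m) : W p N (⊥ : Subgroup Q) m = ⊥ := by
  rw [W, Submodule.span_eq_bot]
  rintro a ⟨l, h1, h2, rfl⟩
  cases l with
  | nil => simp at h2; omega
  | cons t l =>
    have := (h1 t (by simp)).1
    rw [Subgroup.mem_bot] at this
    simp [this, dl_one]

/-- The elements supported on `H`. -/
noncomputable def supp (p : ℕ) (H : Subgroup Q) : Submodule (ZMod p) (Alg p Q) where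
  carrier := {a | ∀ g, g ∉ H → a.coeff g = 0}
  zero_mem' := fun g _ => rfl
  add_mem' := fun {a b} ha hb g hg => by rw [coeff_add, Finsupp.add_apply, ha g hg, hb g hg, add_zero]
  smul_mem' := fun r a ha g hg => by rw [coeff_smul_apply, ha g hg, smul_zero]

theorem of_mul_apply (g : Q) (a : Alg p Q) (q : Q) :
    (MonoidAlgebra.of (ZMod p) Q g * a).coeff q = a.coeff (g⁻¹ * q) := by
  rw [MonoidAlgebra.of_apply, MonoidAlgebra.coeff_single_mul_apply, one_mul]

theorem dl_mul_apply (g : Q) (a : Alg p Q) (q : Q) : (dl p g * a).coeff q = a.coeff (g⁻¹ * q) - a.coeff q := by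
  rw [dl, sub_mul, one_mul, coeff_sub, Finsupp.sub_apply, of_mul_apply]

theorem W_le_supp (H : Subgroup Q) (m : ℕ) : W p N H m ≤ supp p H := by
  refine Submodule.span_le.2 ?_
  rintro a ⟨l, h1, -, rfl⟩
  induction l with
  | nil =>
    intro g hg
    rw [List.map_nil, List.prod_nil, MonoidAlgebra.one_def, coeff_single]
    exact Finsupp.single_eq_of_ne (fun e => hg (e ▸ one_mem H))
  | cons t l ih =>
    intro g hg
    have hrest : ∀ t' ∈ l, t'.1 ∈ H ∧ t'.1 ∈ N t'.2 ∧ 1 ≤ t'.2 := fun t' ht' => h1 t' (by simp [ht'])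
    rw [List.map_cons, List.prod_cons, dl_mul_apply, ih hrest g hg,
      ih hrest _ (fun h => hg ?_), sub_zero]
    have := H.mul_mem (h1 t (by simp)).1 h
    rwa [mul_inv_cancel_left] at this

/-- One cyclic layer `H < K = ⟨u⟩ H` of weight `w`. -/
structure Layer (p : ℕ) (N : ℕ → Subgroup Q) (K H : Subgroup Q) (u : Q) (w : ℕ) : Prop where
  one : ∀ q : Q, q ∈ N 1
  anti : ∀ a b, a ≤ b → N b ≤ N a
  comm : ∀ a b, 1 ≤ a → 1 ≤ b → ∀ y ∈ N a, ∀ z ∈ N b, y⁻¹ * z⁻¹ * y * z ∈ N (a + b)
  le : H ≤ K
  mem : u ∈ K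
  mem_w : u ∈ N w
  pow : u ^ p = 1
  pos : 1 ≤ w
  gen : ∀ g ∈ K, ∃ i : ℕ, ∃ h ∈ H, g = u ^ i * h
  conj : ∀ h ∈ H, u⁻¹ * h * u ∈ H
  low : ∀ h ∈ H, h ∈ N w
  high : ∀ a, w < a → ∀ g ∈ K, g ∈ N a → g ∈ H
  free : ∀ j, 0 < j → j < p → u ^ j ∉ H

namespace Layer

variable {K H : Subgroup Q} {u : Q} {w : ℕ}

/-- The adapted weight space. -/
noncomputable def T (p : ℕ) (N : ℕ → Subgroup Q) (H : Subgroup Q) (u : Q) (w e m : ℕ) :
    Submodule (ZMod p) (Alg p Q) :=
  Submodule.span (ZMod p) {a | ∃ i ≤ e, ∃ y ∈ W p N H (m - i * w), a = dl p u ^ i * y}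

theorem T_mono {e e' m m' : ℕ} (he : e ≤ e') (hm : m' ≤ m) :
    T p N H u w e m ≤ T p N H u w e' m' :=
  Submodule.span_mono fun _ ⟨i, hi, y, hy, h⟩ =>
    ⟨i, hi.trans he, y, W_anti (by omega) hy, h⟩

theorem u_mul {e m : ℕ} {t : Alg p Q} (ht : t ∈ T p N H u w e m) :
    dl p u * t ∈ T p N H u w (e + 1) (m + w) := by
  induction ht using Submodule.span_induction with
  | mem t ht =>
    obtain ⟨i, hi, y, hy, rfl⟩ := ht
    refine Submodule.subset_span ⟨i + 1, by omega, y, W_anti ?_ hy, by rw [pow_succ', mul_assoc]⟩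
    rw [Nat.succ_mul]; omega
  | zero => rw [mul_zero]; exact zero_mem _
  | add a b _ _ ha hb => rw [mul_add]; exact add_mem ha hb
  | smul r a _ ha => rw [mul_smul_comm]; exact Submodule.smul_mem _ r ha

variable (L : Layer p N K H u w)
include L

theorem h_mul_aux : ∀ e, ∀ a, 1 ≤ a → ∀ h ∈ H, h ∈ N a → ∀ m, ∀ t ∈ T p N H u w e m,
    dl p h * t ∈ T p N H u w e (m + a) := by
  intro e
  induction e with
  | zero =>
    intro a ha h hh hha m t ht
    induction ht using Submodule.span_induction with
    | mem t ht =>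
      obtain ⟨i, hi, y, hy, rfl⟩ := ht
      obtain rfl : i = 0 := by omega
      refine Submodule.subset_span ⟨0, le_rfl, dl p h * y, ?_, by simp⟩
      rw [zero_mul, Nat.sub_zero, add_comm]
      rw [zero_mul, Nat.sub_zero] at hy
      exact mul_mem_W (dl_mem hh hha ha) hy
    | zero => rw [mul_zero]; exact zero_mem _
    | add a b _ _ ha hb => rw [mul_add]; exact add_mem ha hb
    | smul r a _ ha => rw [mul_smul_comm]; exact Submodule.smul_mem _ r ha
  | succ e ih =>
    intro a ha h hh hha m t ht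
    induction ht using Submodule.span_induction with
    | mem t ht =>
      obtain ⟨i, hi, y, hy, rfl⟩ := ht
      rcases Nat.lt_or_ge i (e + 1) with hlt | hge
      · exact T_mono (Nat.le_succ e) le_rfl
          (ih a ha h hh hha m _ (Submodule.subset_span ⟨i, by omega, y, hy, rfl⟩))
      obtain rfl : i = e + 1 := by omega
      set h' := u⁻¹ * h * u with hh'
      set c := h⁻¹ * h' with hc
      have hh'H : h' ∈ H := L.conj h hh
      have hcH : c ∈ H := mul_mem (inv_mem hh) hh'H
      have hcN : c ∈ N (a + w) := by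
        have := L.comm a w ha L.pos h hha u L.mem_w
        rwa [show h⁻¹ * u⁻¹ * h * u = c by rw [hc, hh']; group] at this
      have hh'N : h' ∈ N a := by
        rw [show h' = h * c by rw [hc, mul_inv_cancel_left]]
        exact mul_mem hha (L.anti a (a + w) (by omega) hcN)
      have hid : dl p h * dl p u = dl p u * dl p h' + MonoidAlgebra.of (ZMod p) Q h * dl p c := by
        simp only [dl, mul_sub, sub_mul, one_mul, mul_one, ← map_mul]
        rw [show u * h' = h * u by rw [hh']; group, show h * c = h' by rw [hc, mul_inv_cancel_left]]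
        abel
      have hstep : dl p u ^ e * y ∈ T p N H u w e (m - w) := Submodule.subset_span ⟨e, le_rfl, y,
        W_anti (le_of_eq (by rw [Nat.succ_mul]; omega)) hy, rfl⟩
      rw [pow_succ', ← mul_assoc, ← mul_assoc, hid, add_mul, add_mul]
      refine add_mem ?_ ?_
      · rw [mul_assoc, mul_assoc]
        exact T_mono le_rfl (by omega) (u_mul (ih a ha h' hh'H hh'N (m - w) _ hstep))
      · rw [mul_assoc, mul_assoc, of_eq, add_mul, one_mul]
        have h1 := ih (a + w) (by omega) c hcH hcN (m - w) _ hstep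
        exact add_mem (T_mono (Nat.le_succ e) (by omega) (ih a ha h hh hha _ _ h1))
          (T_mono (Nat.le_succ e) (by omega) h1)
    | zero => rw [mul_zero]; exact zero_mem _
    | add a b _ _ ha hb => rw [mul_add]; exact add_mem ha hb
    | smul r a _ ha => rw [mul_smul_comm]; exact Submodule.smul_mem _ r ha

variable [Fact p.Prime]

theorem dl_u_pow : dl p u ^ p = 0 := by
  haveI : CharP (Alg p Q) p :=
    charP_of_injective_ringHom (algebraMap (ZMod p) (Alg p Q)).injective p
  rw [dl, sub_pow_char_of_commute p (Commute.one_right _), ← map_pow, L.pow, map_one, one_pow, sub_self]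

theorem u_mul' {m : ℕ} {t : Alg p Q} (ht : t ∈ T p N H u w (p - 1) m) :
    dl p u * t ∈ T p N H u w (p - 1) (m + w) := by
  induction ht using Submodule.span_induction with
  | mem t ht =>
    obtain ⟨i, hi, y, hy, rfl⟩ := ht
    rcases Nat.lt_or_ge i (p - 1) with hlt | hge
    · exact T_mono (by omega) le_rfl
        (u_mul (e := i) (Submodule.subset_span ⟨i, le_rfl, y, hy, rfl⟩))
    · have := (Fact.out : p.Prime).pos
      rw [← mul_assoc, ← pow_succ', show i + 1 = p by omega, L.dl_u_pow, zero_mul]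
      exact zero_mem _
  | zero => rw [mul_zero]; exact zero_mem _
  | add a b _ _ ha hb => rw [mul_add]; exact add_mem ha hb
  | smul r a _ ha => rw [mul_smul_comm]; exact Submodule.smul_mem _ r ha

theorem of_u_mul {m : ℕ} {t : Alg p Q} (ht : t ∈ T p N H u w (p - 1) m) :
    MonoidAlgebra.of (ZMod p) Q u * t ∈ T p N H u w (p - 1) m := by
  rw [of_eq, add_mul, one_mul]
  exact add_mem (T_mono le_rfl (Nat.le_add_right _ _) (L.u_mul' ht)) ht

theorem g_mul {a : ℕ} (ha : 1 ≤ a) {g : Q} (hg : g ∈ K) (hga : g ∈ N a) {m : ℕ} {t : Alg p Q}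
    (ht : t ∈ T p N H u w (p - 1) m) : dl p g * t ∈ T p N H u w (p - 1) (m + a) := by
  rcases Nat.lt_or_ge w a with hwa | haw
  · exact L.h_mul_aux _ a ha g (L.high a hwa g hg hga) hga m t ht
  obtain ⟨i, h, hh, rfl⟩ := L.gen g hg
  have hha : h ∈ N a := L.anti a w haw (L.low h hh)
  have hid : dl p (u ^ i * h) = dl p u * (∑ j ∈ Finset.range i, MonoidAlgebra.of (ZMod p) Q u ^ j) *
      MonoidAlgebra.of (ZMod p) Q h + dl p h := by
    have hs : dl p u * (∑ j ∈ Finset.range i, MonoidAlgebra.of (ZMod p) Q u ^ j) =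
        MonoidAlgebra.of (ZMod p) Q u ^ i - 1 := mul_geom_sum _ i
    rw [hs, ← map_pow, sub_mul, one_mul, ← map_mul]
    simp only [dl]
    abel
  rw [hid, add_mul]
  refine add_mem ?_ (L.h_mul_aux _ a ha h hh hha m t ht)
  have hof : MonoidAlgebra.of (ZMod p) Q h * t ∈ T p N H u w (p - 1) m := by
    rw [of_eq, add_mul, one_mul]
    exact add_mem (T_mono le_rfl (Nat.le_add_right _ _) (L.h_mul_aux _ a ha h hh hha m t ht)) ht
  rw [mul_assoc, mul_assoc]
  refine T_mono le_rfl (show m + a ≤ m + w by omega) (L.u_mul' ?_)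
  rw [Finset.sum_mul]
  refine Submodule.sum_mem _ fun j hj => ?_
  clear hj
  induction j with
  | zero => rw [pow_zero, one_mul]; exact hof
  | succ j ihj => rw [pow_succ', mul_assoc]; exact L.of_u_mul ihj

theorem W_le_T (m : ℕ) : W p N K m ≤ T p N H u w (p - 1) m := by
  refine Submodule.span_le.2 ?_
  rintro a ⟨l, h1, h2, rfl⟩
  refine T_mono le_rfl h2 ?_
  clear h2
  induction l with
  | nil =>
    exact Submodule.subset_span ⟨0, Nat.zero_le _, 1, by simpa using one_mem_W H, by simp⟩
  | cons t l ih =>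
    obtain ⟨ht1, ht2, ht3⟩ := h1 t (by simp)
    have := L.g_mul ht3 ht1 ht2 (ih fun t' ht' => h1 t' (by simp [ht']))
    simpa [List.map_cons, add_comm] using this

theorem top_coeff : ∀ (e : ℕ) (y : Alg p Q), y ∈ supp p H → e < p →
    (∀ h ∈ H, (dl p u ^ e * y).coeff (u ^ e * h) = y.coeff h) ∧
      ∀ j, e < j → j < p → ∀ h ∈ H, (dl p u ^ e * y).coeff (u ^ j * h) = 0 := by
  intro e
  induction e with
  | zero =>
    intro y hy _
    refine ⟨fun h _ => by simp, fun j hj hjp h hh => ?_⟩
    rw [pow_zero, one_mul]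
    refine hy _ fun hmem => L.free j hj hjp ?_
    have := mul_mem hmem (inv_mem hh)
    rwa [mul_inv_cancel_right] at this
  | succ e ih =>
    intro y hy hep
    obtain ⟨ih1, ih2⟩ := ih y hy (by omega)
    constructor
    · intro h hh
      rw [pow_succ' (dl p u), mul_assoc, dl_mul_apply, pow_succ' u, mul_assoc, inv_mul_cancel_left,
        ih1 h hh, ← mul_assoc, ← pow_succ', ih2 (e + 1) (by omega) hep h hh, sub_zero]
    · intro j hj hjp h hh
      obtain ⟨k, rfl⟩ : ∃ k, j = k + 1 := ⟨j - 1, by omega⟩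
      rw [pow_succ' (dl p u), mul_assoc, dl_mul_apply, pow_succ' u, mul_assoc, inv_mul_cancel_left,
        ih2 k (by omega) (by omega) h hh, ← mul_assoc, ← pow_succ',
        ih2 (k + 1) (by omega) hjp h hh, sub_zero]

theorem eq_zero_of_sum : ∀ E, E ≤ p → ∀ f : ℕ → Alg p Q, (∀ e, f e ∈ supp p H) →
    ∑ e ∈ Finset.range E, dl p u ^ e * f e = 0 → ∀ e < E, f e = 0 := by
  intro E
  induction E with
  | zero => intro _ f _ _ e he; omega
  | succ E ih =>
    intro hE f hf hsum
    rw [Finset.sum_range_succ] at hsum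
    have hEzero : f E = 0 := by
      ext q
      by_cases hq : q ∈ H
      · have h1 := congrArg (fun a : Alg p Q => a.coeff (u ^ E * q)) hsum
        simp only [coeff_add, coeff_sum, coeff_zero, Finsupp.add_apply, Finsupp.finset_sum_apply, Finsupp.coe_zero, Pi.zero_apply]
          at h1
        rw [(L.top_coeff E (f E) (hf E) (by omega)).1 q hq, Finset.sum_eq_zero (fun e he =>
          (L.top_coeff e (f e) (hf e) (by have := Finset.mem_range.1 he; omega)).2 E
            (Finset.mem_range.1 he) (by omega) q hq), zero_add] at h1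
        simpa using h1
      · simpa using hf E q hq
    rw [hEzero, mul_zero, add_zero] at hsum
    intro e he
    rcases Nat.lt_or_ge e E with h | h
    · exact ih (by omega) f hf hsum e h
    · rw [show e = E by omega]; exact hEzero

theorem exists_rep {m : ℕ} {t : Alg p Q} (ht : t ∈ T p N H u w (p - 1) m) (hp : 0 < p) :
    ∃ f : ℕ → Alg p Q, (∀ e, f e ∈ W p N H (m - e * w)) ∧
      ∑ e ∈ Finset.range p, dl p u ^ e * f e = t := by
  induction ht using Submodule.span_induction with
  | mem t ht =>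
    obtain ⟨i, hi, y, hy, rfl⟩ := ht
    refine ⟨fun e => if e = i then y else 0, fun e => ?_, ?_⟩
    · by_cases h : e = i
      · subst h; simpa using hy
      · simp [h]
    · rw [Finset.sum_eq_single i (fun e _ he => by simp [he]) (fun h => by
        simp only [Finset.mem_range] at h; omega)]
      simp
  | zero => exact ⟨fun _ => 0, fun e => zero_mem _, by simp⟩
  | add a b _ _ ha hb =>
    obtain ⟨f, hf, rfl⟩ := ha
    obtain ⟨g, hg, rfl⟩ := hb
    exact ⟨fun e => f e + g e, fun e => add_mem (hf e) (hg e), by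
      simp [mul_add, Finset.sum_add_distrib]⟩
  | smul r a _ ha =>
    obtain ⟨f, hf, rfl⟩ := ha
    exact ⟨fun e => r • f e, fun e => Submodule.smul_mem _ r (hf e), by simp [Finset.smul_sum]⟩

/-- Descending one layer. -/
theorem descend {m : ℕ} {t : Alg p Q} (ht : t ∈ W p N K m) (hs : t ∈ supp p H) :
    t ∈ W p N H m := by
  have hp := (Fact.out : p.Prime).pos
  obtain ⟨f, hf, hsum⟩ := L.exists_rep (L.W_le_T m ht) hp
  have h0 := L.eq_zero_of_sum p le_rfl (fun e => if e = 0 then f 0 - t else f e) (fun e => by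
      by_cases he : e = 0
      · simp only [he, if_true]; exact sub_mem (W_le_supp H _ (hf 0)) hs
      · simp only [he, if_false]; exact W_le_supp H _ (hf e))
    (by
      obtain ⟨q, hq⟩ : ∃ q, p = q + 1 := ⟨p - 1, by omega⟩
      rw [show Finset.range p = Finset.range (q + 1) from congrArg Finset.range hq] at hsum ⊢
      rw [Finset.sum_range_succ'] at hsum ⊢
      simp only [Nat.succ_ne_zero, if_false, if_true, pow_zero, one_mul, Nat.add_eq_zero,
        one_ne_zero, and_false] at hsum ⊢
      rw [← hsum]; abel) 0 hp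
  simp only [if_true] at h0
  have := hf 0
  rw [zero_mul, Nat.sub_zero, sub_eq_zero.1 h0] at this
  exact this

/-- The generator of the layer has exactly weight `w`. -/
theorem dl_notMem (hH : H = ⊥) {m : ℕ} (hm : w < m) : dl p u ∉ W p N K m := by
  intro hmem
  have hp := (Fact.out : p.Prime)
  obtain ⟨f, hf, hsum⟩ := L.exists_rep (L.W_le_T m hmem) hp.pos
  have hone : (1 : Alg p Q) ∈ supp p H := W_le_supp H 0 (one_mem_W (N := N) H)
  have h0 := L.eq_zero_of_sum p le_rfl (fun e => if e = 1 then f 1 - 1 else f e) (fun e => by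
      by_cases he : e = 1
      · simp only [he, if_true]; exact sub_mem (W_le_supp H _ (hf 1)) hone
      · simp only [he, if_false]; exact W_le_supp H _ (hf e))
    (by
      have h1 : ∑ e ∈ Finset.range p, dl p u ^ e * (if e = 1 then f 1 - 1 else f e) =
          ∑ e ∈ Finset.range p, (dl p u ^ e * f e - if e = 1 then dl p u else 0) :=
        Finset.sum_congr rfl fun e _ => by
          by_cases he : e = 1
          · subst he; simp [mul_sub]
          · simp [he]
      rw [h1, Finset.sum_sub_distrib, hsum, Finset.sum_ite_eq' (Finset.range p) 1,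
        if_pos (Finset.mem_range.2 hp.one_lt), sub_self]) 1 hp.one_lt
  simp only [if_true] at h0
  have := hf 1
  rw [hH, W_bot (by rw [one_mul]; omega), Submodule.mem_bot] at this
  rw [this, zero_sub, neg_eq_zero] at h0
  exact one_ne_zero h0

end Layer

variable [Fact p.Prime]

/-- The Engel identity in exponent `p`. -/
theorem engel (h1 : ∀ q : Q, q ∈ N 1)
    (hcomm : ∀ a b, 1 ≤ a → 1 ≤ b → ∀ y ∈ N a, ∀ z ∈ N b, ⁅y, z⁆ ∈ N (a + b))
    (hexp : ∀ q : Q, q ^ p = 1) (b x : Q) :
    dl p ((fun c : Q => ⁅c⁻¹, x⁻¹⁆)^[p - 1] b) ∈ W p N ⊤ (p + 1) := by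
  classical
  have hp := (Fact.out : p.Prime)
  haveI : CharP (Alg p Q) p :=
    charP_of_injective_ringHom (algebraMap (ZMod p) (Alg p Q)).injective p
  have hW1 : ∀ g : Q, dl p g ∈ W p N ⊤ 1 := fun g => dl_mem (Subgroup.mem_top g) (h1 g) le_rfl
  set X := dl p x
  set B := dl p b
  have hzero : ∀ g : Q, dl p g ^ p = 0 := fun g => by
    rw [dl, sub_pow_char_of_commute p (Commute.one_right _), ← map_pow, hexp, map_one, one_pow,
      sub_self]
  -- linear approximation
  have hlam : ∀ l : ℕ, dl p (b ^ l) - (l : ZMod p) • B ∈ W p N ⊤ 2 := by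
    intro l
    induction l with
    | zero => simp [dl_one]
    | succ l ih =>
      have e : dl p (b ^ (l + 1)) - ((l + 1 : ℕ) : ZMod p) • B =
          (dl p (b ^ l) - (l : ZMod p) • B) + dl p (b ^ l) * B := by
        rw [Nat.cast_succ, add_smul, one_smul]
        simp only [B, dl, pow_succ, map_mul, sub_mul, mul_sub, one_mul, mul_one]
        abel
      rw [e]
      exact add_mem ih (mul_mem_W (a := 1) (b := 1) (hW1 _) (hW1 b))
  have hgx : ∀ l : ℕ, dl p (b ^ l * x) - ((l : ZMod p) • B + X) ∈ W p N ⊤ 2 := by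
    intro l
    have e : dl p (b ^ l * x) - ((l : ZMod p) • B + X) =
        (dl p (b ^ l) - (l : ZMod p) • B) + dl p (b ^ l) * X := by
      simp only [X, dl, map_mul, sub_mul, mul_sub, one_mul, mul_one]
      abel
    rw [e]
    exact add_mem (hlam l) (mul_mem_W (a := 1) (b := 1) (hW1 _) (hW1 x))
  have hpowdiff : ∀ a a' : Alg p Q, a ∈ W p N ⊤ 1 → a' ∈ W p N ⊤ 1 → a - a' ∈ W p N ⊤ 2 →
      ∀ n, a ^ n - a' ^ n ∈ W p N ⊤ (n + 1) := by
    intro a a' ha ha' hd n
    induction n with
    | zero => simp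
    | succ n ih =>
      rw [show a ^ (n + 1) - a' ^ (n + 1) = a ^ n * (a - a') + (a ^ n - a' ^ n) * a' by
        rw [pow_succ, pow_succ, mul_sub, sub_mul]; abel]
      refine add_mem ?_ (mul_mem_W (a := n + 1) (b := 1) ih ha')
      have := mul_mem_W (pow_mem_W ha n) hd
      rwa [mul_one] at this
  -- coefficients of `(l B + X) ^ n`
  let co : ℕ → ℕ → Alg p Q := fun n => Nat.rec (fun i => if i = 0 then 1 else 0)
    (fun _ c i => c i * X + if i = 0 then 0 else c (i - 1) * B) n
  have hco0 : ∀ n, co n 0 = X ^ n := by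
    intro n
    induction n with
    | zero => rfl
    | succ n ih => show co n 0 * X + _ = _; rw [ih]; simp [pow_succ]
  have hcobig : ∀ n i, n < i → co n i = 0 := by
    intro n
    induction n with
    | zero => intro i hi; show (if i = 0 then (1 : Alg p Q) else 0) = 0; rw [if_neg (by omega)]
    | succ n ih =>
      intro i hi
      show co n i * X + (if i = 0 then 0 else co n (i - 1) * B) = 0
      rw [ih i (by omega), ih (i - 1) (by omega)]
      simp
  have hcotop : ∀ n, co n n = B ^ n := by
    intro n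
    induction n with
    | zero => rfl
    | succ n ih =>
      show co n (n + 1) * X + (if n + 1 = 0 then 0 else co n n * B) = _
      rw [hcobig n (n + 1) (by omega), ih, if_neg (by omega), zero_mul, zero_add, pow_succ]
  have hco1 : ∀ n, co n 1 = ∑ j ∈ Finset.range n, X ^ j * B * X ^ (n - 1 - j) := by
    intro n
    induction n with
    | zero => show (if 1 = 0 then (1 : Alg p Q) else 0) = _; simp
    | succ n ih =>
      show co n 1 * X + (if 1 = 0 then 0 else co n 0 * B) = _
      rw [ih, hco0, if_neg one_ne_zero, Finset.sum_range_succ, Finset.sum_mul]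
      congr 1
      · refine Finset.sum_congr rfl fun j hj => ?_
        have := Finset.mem_range.1 hj
        rw [mul_assoc (X ^ j * B), ← pow_succ]
        congr 2; omega
      · simp
  have hexpand : ∀ (l : ZMod p) n,
      (l • B + X) ^ n = ∑ i ∈ Finset.range (n + 1), l ^ i • co n i := by
    intro l n
    induction n with
    | zero => simp [co]
    | succ n ih =>
      rw [pow_succ, ih, Finset.sum_mul]
      simp only [mul_add, smul_mul_assoc, mul_smul_comm, smul_smul]
      rw [Finset.sum_add_distrib, Finset.sum_range_succ' (fun i => l ^ i • co (n + 1) i) (n + 1)]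
      have e : ∀ i, co (n + 1) (i + 1) = co n (i + 1) * X + co n i * B := fun i => by
        show co n (i + 1) * X + (if i + 1 = 0 then 0 else co n (i + 1 - 1) * B) = _
        rw [if_neg (by omega), Nat.add_sub_cancel]
      simp only [e, smul_add, Finset.sum_add_distrib]
      rw [Finset.sum_range_succ' (fun i => l ^ i • (co n i * X)) n,
        Finset.sum_range_succ (fun i => l ^ (i + 1) • (co n (i + 1) * X)) n,
        hcobig n (n + 1) (by omega)]
      have e0 : co (n + 1) 0 = co n 0 * X := by
        show co n 0 * X + (if 0 = 0 then (0 : Alg p Q) else _) = _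
        simp
      rw [e0]
      simp only [zero_mul, smul_zero, add_zero, pow_succ, mul_comm l]
      abel
  have hval : ∀ l : ZMod p, ∑ i ∈ Finset.range (p + 1), l ^ i • co p i ∈ W p N ⊤ (p + 1) := by
    intro l
    obtain ⟨k, rfl⟩ := ZMod.natCast_zmod_surjective l
    rw [← hexpand]
    have hlin : (k : ZMod p) • B + X ∈ W p N ⊤ 1 :=
      add_mem (Submodule.smul_mem _ _ (hW1 b)) (hW1 x)
    have := hpowdiff _ _ (hW1 (b ^ k * x)) hlin (hgx k) p
    rwa [hzero, zero_sub, Submodule.neg_mem_iff] at this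
  have hc1 : co p 1 ∈ W p N ⊤ (p + 1) := by
    have h2 : ∑ l : ZMod p, l ^ (p - 2) • (∑ i ∈ Finset.range (p + 1), l ^ i • co p i) ∈
        W p N ⊤ (p + 1) := Submodule.sum_mem _ fun l _ => Submodule.smul_mem _ _ (hval l)
    simp only [Finset.smul_sum, smul_smul, ← pow_add] at h2
    rw [Finset.sum_comm] at h2
    simp only [← Finset.sum_smul] at h2
    have hpc : Fintype.card (ZMod p) = p := ZMod.card p
    have hp2 := hp.two_le
    rw [Finset.sum_eq_single 1 (fun i hi hi1 => ?_) (fun h => absurd (Finset.mem_range.2 (by omega)) h),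
      show p - 2 + 1 = p - 1 by omega] at h2
    · have hs : ∑ l : ZMod p, l ^ (p - 1) = -1 := by
        rw [← Finset.sum_erase_add _ _ (Finset.mem_univ (0 : ZMod p)), zero_pow (by omega),
          add_zero, Finset.sum_congr rfl (g := fun _ => (1 : ZMod p))
            (fun l hl => ZMod.pow_card_sub_one_eq_one (Finset.ne_of_mem_erase hl))]
        simp [Finset.card_erase_of_mem, ZMod.card, Nat.cast_sub hp.one_le]
      rw [hs, neg_smul, one_smul, Submodule.neg_mem_iff] at h2
      exact h2
    · have hi' := Finset.mem_range.1 hi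
      rcases (show i = 0 ∨ i = p ∨ (2 ≤ i ∧ i < p) by omega) with rfl | rfl | ⟨hi2, hip⟩
      · rw [FiniteField.sum_pow_lt_card_sub_one _ _ (by rw [hpc]; omega), zero_smul]
      · rw [hcotop, hzero, smul_zero]
      · have e : ∀ l : ZMod p, l ^ (p - 2 + i) = l ^ (i - 1) := fun l => by
          rw [show p - 2 + i = p + (i - 2) by omega, pow_add, ZMod.pow_card, ← pow_succ',
            show i - 2 + 1 = i - 1 by omega]
        simp only [e]
        rw [FiniteField.sum_pow_lt_card_sub_one _ _ (by rw [hpc]; omega), zero_smul]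
  -- the iterated bracket
  set Rr : Module.End (ZMod p) (Alg p Q) := LinearMap.mulRight (ZMod p) X with hRr
  set Ll : Module.End (ZMod p) (Alg p Q) := LinearMap.mulLeft (ZMod p) X with hLl
  set δ : Module.End (ZMod p) (Alg p Q) := Rr + -Ll with hδ
  have hδapp : ∀ a, δ a = a * X - X * a := fun a => by
    rw [hδ, LinearMap.add_apply, LinearMap.neg_apply, ← sub_eq_add_neg]; rfl
  have hδsum : (δ ^ (p - 1)) B = co p 1 := by
    have hc : Commute Rr (-Ll) := by
      have h0 : Rr * Ll = Ll * Rr := LinearMap.ext fun a => (mul_assoc X a X)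
      exact Commute.neg_right h0
    have hch : ∀ m, m ≤ p - 1 → (((p - 1).choose m : ℕ) : ZMod p) = (-1) ^ m := by
      intro m
      induction m with
      | zero => simp
      | succ m ih =>
        intro hm
        have h := Nat.choose_succ_succ' (p - 1) m
        rw [show p - 1 + 1 = p by omega] at h
        have h2 := congrArg (fun k : ℕ => (k : ZMod p)) h
        simp only [Nat.cast_add] at h2
        rw [(CharP.cast_eq_zero_iff (ZMod p) p (p.choose (m + 1))).2
          (hp.dvd_choose_self (by omega) (by omega)), ih (by omega)] at h2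
        rw [pow_succ, mul_neg_one]
        exact (eq_neg_of_add_eq_zero_right h2.symm)
    have hR : ∀ (k : ℕ) (v : Alg p Q), (Rr ^ k) v = v * X ^ k := by
      intro k v
      induction k with
      | zero => simp
      | succ k ih => rw [pow_succ', Module.End.mul_apply, ih, pow_succ, ← mul_assoc]; rfl
    have hL : ∀ (k : ℕ) (v : Alg p Q), ((-Ll) ^ k) v = (-1 : ZMod p) ^ k • (X ^ k * v) := by
      intro k v
      induction k with
      | zero => simp
      | succ k ih =>
        rw [pow_succ', Module.End.mul_apply, ih, map_smul, LinearMap.neg_apply,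
          show Ll (X ^ k * v) = X * (X ^ k * v) from rfl, ← mul_assoc, ← pow_succ', pow_succ (-1 : ZMod p),
          mul_neg_one, neg_smul, smul_neg]
    have hp2 := hp.two_le
    rw [hδ, hc.add_pow, hco1, LinearMap.sum_apply,
      show p - 1 + 1 = p by omega, ← Finset.sum_range_reflect (fun j => X ^ j * B * X ^ (p - 1 - j)) p]
    refine Finset.sum_congr rfl fun j hj => ?_
    have hjp := Finset.mem_range.1 hj
    rw [← Nat.cast_comm, ← nsmul_eq_mul, LinearMap.smul_apply, Module.End.mul_apply, hR, hL,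
      show p - 1 - (p - 1 - j) = j by omega, smul_mul_assoc, ← Nat.cast_smul_eq_nsmul (ZMod p),
      smul_smul, hch j (by omega), ← pow_add, show j + (p - 1 - j) = p - 1 by omega]
    rcases hp.eq_two_or_odd with h2 | h2
    · subst h2
      rw [show (-1 : ZMod 2) = 1 from CharTwo.neg_eq 1, one_pow, one_smul]
    · rw [(show Even (p - 1) from ⟨(p - 1) / 2, by omega⟩).neg_one_pow, one_smul]
  set cc := fun c : Q => ⁅c⁻¹, x⁻¹⁆ with hcc
  have hccN : ∀ m, cc^[m] b ∈ N (m + 1) := by
    intro m
    induction m with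
    | zero => exact h1 b
    | succ m ih =>
      rw [Function.iterate_succ_apply']
      exact hcomm (m + 1) 1 (by omega) le_rfl _ (inv_mem ih) _ (h1 _)
  have hδW : ∀ {r : ℕ} {a : Alg p Q}, a ∈ W p N ⊤ r → δ a ∈ W p N ⊤ (r + 1) := by
    intro r a ha
    rw [hδapp]
    refine sub_mem (mul_mem_W (a := r) (b := 1) ha (hW1 x)) ?_
    rw [add_comm]
    exact mul_mem_W (a := 1) (b := r) (hW1 x) ha
  have hiter : ∀ m, (δ ^ m) B - dl p (cc^[m] b) ∈ W p N ⊤ (m + 2) := by
    intro m
    induction m with
    | zero => simp [B]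
    | succ m ih =>
      rw [pow_succ', Module.End.mul_apply, Function.iterate_succ_apply']
      set c := cc^[m] b
      have e : δ (dl p c) = MonoidAlgebra.of (ZMod p) Q (x * c) * dl p (cc c) := by
        rw [hδapp]
        simp only [X, dl, mul_sub, sub_mul, one_mul, mul_one, ← map_mul]
        rw [show x * c * cc c = c * x by simp only [hcc, commutatorElement_def]; group]
        abel
      have e2 : δ ((δ ^ m) B) - dl p (cc c) =
          δ ((δ ^ m) B - dl p c) + dl p (x * c) * dl p (cc c) := by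
        rw [map_sub, e, of_eq, add_mul, one_mul]; abel
      rw [e2]
      refine add_mem (hδW ih) ?_
      have := mul_mem_W (p := p) (hW1 (x * c)) (dl_mem (N := N) (a := m + 1 + 1)
        (Subgroup.mem_top (cc c)) (hcomm (m + 1) 1 (by omega) le_rfl _ (inv_mem (hccN m)) _ (h1 _))
        (by omega))
      rwa [show 1 + (m + 1 + 1) = m + 1 + 2 by omega] at this
  have := sub_mem hc1 (hδsum ▸ (W_anti (le_of_eq (by have := hp.two_le; omega)) (hiter (p - 1))))
  rwa [sub_sub_cancel] at this

end CfsgLib.MaxClassAgemo
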