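import Cfsg.Agent.Lib.PGroup.MaxClassUniform
import Cfsg.Agent.Lib.PGroup.MaxClassAgemo.Engel

/-!
# Agemo of subgroups of `p`-groups of maximal class

If `G` has order `p ^ n` and maximal class then `|H : ℧₁(H)| ≤ p ^ p` for every subgroup `H`.
-/

set_option autoImplicit false
set_option linter.style.haveILetI false
set_option linter.unusedSectionVars false

open Subgroup
open scoped commutatorElement

namespace CfsgLib.MaxClassAgemo

open CfsgLib.MaxClassShift (gam gam_normal gam_anti gam_one gam_comm)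
open CfsgLib.MaxClassUniform (Uniform)
open CfsgLib.PGroup.MaxClassRank (twoStepAt layer_gen)

universe u

variable {G : Type u} [Group G] [Finite G] {p n : ℕ} [Fact p.Prime]

/-- The subgroup generated by the `p`-th powers of `H`. -/
def agm (p : ℕ) (H : Subgroup G) : Subgroup G := closure {y | ∃ h ∈ H, y = h ^ p}

theorem pow_mem_agm {H : Subgroup G} {b : G} (hb : b ∈ H) : b ^ p ∈ agm p H :=
  subset_closure ⟨b, hb, rfl⟩

theorem agm_le (H : Subgroup G) : agm p H ≤ H := by
  rw [agm, closure_le]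
  rintro y ⟨h, hh, rfl⟩
  exact pow_mem hh p

theorem agm_mono {H K : Subgroup G} (h : H ≤ K) : agm p H ≤ agm p K :=
  closure_mono fun _ ⟨a, ha, e⟩ => ⟨a, h ha, e⟩

omit [Fact p.Prime] in
theorem card_inf_le {A B : Subgroup G} (hAB : A ≤ B) (H : Subgroup G) :
    Nat.card ↥(H ⊓ B) ≤ Nat.card ↥(H ⊓ A) * A.relIndex B := by
  have e := relIndex_mul_relIndex ⊥ (H ⊓ A) (H ⊓ B) bot_le (inf_le_inf_left H hAB)
  rw [relIndex_bot_left, relIndex_bot_left] at e
  rw [← e]
  refine Nat.mul_le_mul_left _ ?_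
  have e2 : (H ⊓ A).relIndex (H ⊓ B) = A.relIndex (H ⊓ B) := by
    rw [show H ⊓ A = A ⊓ (H ⊓ B) by rw [inf_left_comm, inf_eq_left.2 hAB], inf_relIndex_right]
  rw [e2]
  haveI := isFiniteRelIndex_of_finiteIndex (H := A) (K := B)
  exact relIndex_le_of_le_right inf_le_right relIndex_ne_zero

theorem mul_card_le_of_lt (hn : Nat.card G = p ^ n) {A B : Subgroup G} (h : A ≤ B) {b : G}
    (hb : b ∈ B) (hb' : b ∉ A) : p * Nat.card A ≤ Nat.card B := by
  have hp := (Fact.out : p.Prime)
  obtain ⟨a, -, ha⟩ := (Nat.dvd_prime_pow hp).1 (hn ▸ A.card_subgroup_dvd_card)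
  obtain ⟨c, -, hc⟩ := (Nat.dvd_prime_pow hp).1 (hn ▸ B.card_subgroup_dvd_card)
  rw [ha, hc, ← pow_succ']
  refine Nat.pow_le_pow_right hp.pos ?_
  by_contra hlt
  refine hb' ((eq_of_le_of_card_ge h ?_).ge hb)
  rw [ha, hc]
  exact Nat.pow_le_pow_right hp.pos (by omega)

variable {x : G} (h : Uniform x p n)
include h

theorem relIndex_gam {k : ℕ} (h2 : 2 ≤ k) (hk : k < n) : (gam G (k + 1)).relIndex (gam G k) = p := by
  have e := relIndex_mul_index (gam_anti (G := G) (Nat.le_succ k))
  rw [h.index_gam (by omega) hk, h.index_gam h2 hk.le, pow_succ'] at e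
  exact Nat.eq_of_mul_eq_mul_right (pow_pos (Fact.out : p.Prime).pos _) e

theorem exists_mem_layer {k : ℕ} (h2 : 2 ≤ k) (hk : k < n) :
    ∃ b, b ∈ gam G k ∧ b ∉ gam G (k + 1) := by
  by_contra hcon
  push Not at hcon
  exact PGroup.MaxClassRank.gam_succ_lt h.isPGroup h.card h.three h.class_eq (by omega) hk (by omega)
    hcon

theorem card_inf_gam_le (H : Subgroup G) : ∀ t k, 2 ≤ k → n ≤ k + t →
    Nat.card ↥(H ⊓ gam G k) ≤ Nat.card ↥(agm p H ⊓ gam G (k + p - 1)) * p ^ (p - 1) := by
  have hp := (Fact.out : p.Prime)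
  have hp2 := hp.two_le
  have small : ∀ k, 2 ≤ k → n ≤ k + p - 1 →
      Nat.card ↥(H ⊓ gam G k) ≤ Nat.card ↥(agm p H ⊓ gam G (k + p - 1)) * p ^ (p - 1) := by
    intro k h2 hk
    refine le_trans ?_ (Nat.le_mul_of_pos_left _ Nat.card_pos)
    refine (Subgroup.card_le_of_le inf_le_right).trans ?_
    rcases Nat.lt_or_ge n k with hlt | hge
    · rw [h.gam_eq_bot hlt.le, card_bot]
      exact Nat.one_le_pow _ _ hp.pos
    · rw [h.card_gam h2 hge]
      exact Nat.pow_le_pow_right hp.pos (by omega)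
  intro t
  induction t with
  | zero => intro k h2 hk; exact small k h2 (by omega)
  | succ t ih =>
    intro k h2 hk
    rcases le_or_gt n (k + p - 1) with hle | hlt
    · exact small k h2 hle
    have hn1 := ih (k + 1) (by omega) (by omega)
    rw [show k + 1 + p - 1 = k + p by omega] at hn1
    have hmono : agm p H ⊓ gam G (k + p) ≤ agm p H ⊓ gam G (k + p - 1) :=
      inf_le_inf_left _ (gam_anti (by omega))
    by_cases hHk : H ⊓ gam G k ≤ gam G (k + 1)
    · exact (Subgroup.card_le_of_le (le_inf inf_le_left hHk)).trans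
        (hn1.trans (Nat.mul_le_mul_right _ (Subgroup.card_le_of_le hmono)))
    obtain ⟨b, hb, hb'⟩ := SetLike.not_le_iff_exists.1 hHk
    obtain ⟨h1, h3⟩ := h.pow_shift n k h2 (by omega) b (mem_inf.1 hb).2
    have hlast := mul_card_le_of_lt h.card hmono
      (mem_inf.2 ⟨pow_mem_agm (mem_inf.1 hb).1, h1⟩) (fun hh => h3 hb' hlt (mem_inf.1 hh).2)
    have hfirst := card_inf_le (gam_anti (G := G) (Nat.le_succ k)) H
    rw [relIndex_gam h h2 (by omega)] at hfirst
    calc Nat.card ↥(H ⊓ gam G k) ≤ Nat.card ↥(H ⊓ gam G (k + 1)) * p := hfirst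
      _ ≤ Nat.card ↥(agm p H ⊓ gam G (k + p)) * p ^ (p - 1) * p := Nat.mul_le_mul_right _ hn1
      _ = p * Nat.card ↥(agm p H ⊓ gam G (k + p)) * p ^ (p - 1) := by ring
      _ ≤ _ := Nat.mul_le_mul_right _ hlast

theorem gam_le_agm (hn : p + 1 ≤ n) : gam G (p + 1) ≤ agm p (⊤ : Subgroup G) := by
  have hp2 := (Fact.out : p.Prime).two_le
  suffices H : ∀ t j, p + 1 ≤ j → n ≤ j + t → gam G j ≤ agm p (⊤ : Subgroup G) from
    H n (p + 1) le_rfl (by omega)
  intro t
  induction t with
  | zero => intro j _ hj; rw [h.gam_eq_bot (by omega)]; exact bot_le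
  | succ t ih =>
    intro j hj hjn
    rcases le_or_gt n j with hle | hlt
    · rw [h.gam_eq_bot hle]; exact bot_le
    intro y hy
    obtain ⟨b, hb, hb'⟩ := exists_mem_layer h (k := j - p + 1) (by omega) (by omega)
    obtain ⟨h1, h3⟩ := h.pow_shift n (j - p + 1) (by omega) (by omega) b hb
    rw [show j - p + 1 + p - 1 = j by omega] at h1 h3
    have h3' := h3 hb' hlt
    rw [show j - p + 1 + p = j + 1 by omega] at h3'
    obtain ⟨i, hi⟩ := layer_gen h.isPGroup h.card h.three h.class_eq (by omega) hlt h1 h3' hy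
    have := mul_mem (zpow_mem (pow_mem_agm (p := p) (mem_top b)) i)
      (ih (j + 1) (by omega) (by omega) hi)
    rwa [mul_inv_cancel_left] at this

/-- Elements central modulo `γ₃` lie in `γ₂`. -/
theorem twoStepAt_one {b : G} (hb : b ∈ twoStepAt G 1) : b ∈ gam G 2 := by
  have hp := (Fact.out : p.Prime)
  have h3 := h.three
  by_contra hb'
  set T := twoStepAt G 1
  have hT : T ≠ ⊤ := PGroup.MaxClassRank.twoStepAt_ne_top h.isPGroup h.card h3 h.class_eq le_rfl
    (by omega)
  have hle : gam G 2 ≤ T :=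
    MaxClassUniform.gam_le_twoStepAt h.isPGroup le_rfl
  obtain ⟨g, hg⟩ : ∃ g, g ∉ T := by
    by_contra hcon
    push Not at hcon
    exact hT ((eq_top_iff' T).2 hcon)
  let S : Subgroup G := (centralizer ({QuotientGroup.mk' (gam G 3) g} : Set (G ⧸ gam G 3))).comap
    (QuotientGroup.mk' (gam G 3))
  have hS : ∀ v, v ∈ S ↔ ⁅g, v⁆ ∈ gam G 3 := fun v => by
    rw [mem_comap, mem_centralizer_singleton_iff, ← QuotientGroup.eq_one_iff,
      ← QuotientGroup.mk'_apply, map_commutatorElement, commutatorElement_eq_one_iff_mul_comm]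
    exact eq_comm
  have hTS : T ≤ S := fun v hv => by
    rw [hS, ← commutatorElement_inv]
    exact inv_mem (hv g (mem_top g))
  have hgS : g ∈ S := by rw [hS, commutatorElement_self]; exact one_mem _
  have c1 := mul_card_le_of_lt h.card hle hb hb'
  have c2 := mul_card_le_of_lt h.card hTS hgS hg
  have c3 := h.card_gam le_rfl (show 2 ≤ n by omega)
  have c4 : p ^ n ≤ Nat.card S := by
    calc p ^ n = p * (p * p ^ (n - 2)) := by rw [← pow_succ', ← pow_succ']; congr 1; omega
      _ ≤ p * Nat.card T := Nat.mul_le_mul_left _ (c3 ▸ c1)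
      _ ≤ _ := c2
  have hST : S = ⊤ := eq_top_of_le_card _ (h.card ▸ c4)
  exact hg fun v hv => (hS v).1 (hST ▸ mem_top v)

/-- Some `p`-th power of an element of the first two step centralizer lies outside `γ_{p+1}`. -/
theorem exists_pow_notMem_twoStep (hn : p + 2 ≤ n) :
    ∃ b ∈ twoStepAt G 2, b ^ p ∉ gam G (p + 1) := by
  have hp := (Fact.out : p.Prime)
  have hp2 := hp.two_le
  -- an element centralizing `γ₂ / γ₄` outside `γ₂`
  obtain ⟨v, hv, hv'⟩ := exists_mem_layer h (k := 2) le_rfl (by omega)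
  obtain ⟨b, hbT, hb2⟩ : ∃ b, b ∈ twoStepAt G 2 ∧ b ∉ gam G 2 := by
    by_contra hcon
    push Not at hcon
    haveI := gam_normal (G := G) 4
    let φ : G → (gam G 3).map (QuotientGroup.mk' (gam G 4)) := fun g =>
      ⟨_, mem_map_of_mem (QuotientGroup.mk' (gam G 4))
        (gam_comm (a := 1) (b := 2) le_rfl (by omega) (mem_top g) hv)⟩
    let ψ : G ⧸ twoStepAt G 2 → (gam G 3).map (QuotientGroup.mk' (gam G 4)) := fun q => φ q.out
    have hinj : Function.Injective ψ := fun q r e => by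
      rw [← QuotientGroup.out_eq' q, ← QuotientGroup.out_eq' r, QuotientGroup.eq]
      have e1 := congrArg Subtype.val e
      simp only [ψ, φ, map_commutatorElement] at e1
      intro w hw
      obtain ⟨i, hi⟩ := layer_gen h.isPGroup h.card h.three h.class_eq le_rfl (by omega) hv hv' hw
      set a := q.out
      set c := r.out
      have hcomm : QuotientGroup.mk' (gam G 4) ⁅a⁻¹ * c, v⁆ = 1 := by
        rw [map_commutatorElement, map_mul, map_inv]
        simp only [commutatorElement_def] at e1 ⊢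
        have e2 := mul_right_cancel e1
        calc _ = (QuotientGroup.mk' (gam G 4) a)⁻¹ * (QuotientGroup.mk' (gam G 4) c *
              QuotientGroup.mk' (gam G 4) v * (QuotientGroup.mk' (gam G 4) c)⁻¹) *
              QuotientGroup.mk' (gam G 4) a * (QuotientGroup.mk' (gam G 4) v)⁻¹ := by group
          _ = 1 := by rw [← e2]; group
      have hz : QuotientGroup.mk' (gam G 4) ⁅a⁻¹ * c, (v ^ i)⁻¹ * w⁆ = 1 :=
        (QuotientGroup.eq_one_iff _).2
          (gam_comm (a := 1) (b := 3) le_rfl (by omega) (mem_top _) hi)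
      show _ ∈ gam G 4
      rw [← QuotientGroup.eq_one_iff, ← QuotientGroup.mk'_apply,
        show w = v ^ i * ((v ^ i)⁻¹ * w) by group]
      rw [map_commutatorElement, commutatorElement_eq_one_iff_mul_comm] at hcomm hz ⊢
      rw [map_mul (QuotientGroup.mk' (gam G 4)) (v ^ i), map_zpow]
      exact ((Commute.zpow_right hcomm i).mul_right hz).eq
    have c1 := Nat.card_le_card_of_injective ψ hinj
    rw [← index_eq_card, ← relIndex_ker] at c1
    rw [QuotientGroup.ker_mk', relIndex_gam h (k := 3) (by omega) (by omega)] at c1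
    have c2 := index_antitone (H := twoStepAt G 2) (K := gam G 2) hcon
    rw [h.index_gam le_rfl (by omega)] at c2
    have := c2.trans c1
    nlinarith [hp.two_le]
  refine ⟨b, hbT, fun hbp => ?_⟩
  obtain ⟨g, hg⟩ : ∃ g : G, ⁅g, b⁆ ∉ gam G 3 := by
    by_contra hcon
    push Not at hcon
    refine hb2 (twoStepAt_one h fun g _ => ?_)
    rw [← commutatorElement_inv]
    exact inv_mem (hcon g)
  set c := ⁅g, b⁆ with hc
  have hc2 : c ∈ gam G 2 := gam_comm (a := 1) (b := 1) le_rfl le_rfl (mem_top g) (mem_top b)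
  have hcp : c ^ p ∉ gam G (2 + p) := (h.pow_shift n 2 le_rfl (by omega) c hc2).2 hg (by omega)
  haveI := gam_normal (G := G) (2 + p)
  set q := QuotientGroup.mk' (gam G (2 + p))
  have hF : PolySeq.Filt (fun j => (gam G j).map q) (2 + p) := by
    refine ⟨fun a b _ hab => map_mono (gam_anti hab), fun a b ha hb y hy z hz => ?_, ?_⟩
    · obtain ⟨y, hy, rfl⟩ := hy
      obtain ⟨z, hz, rfl⟩ := hz
      rw [← map_commutatorElement]
      exact mem_map_of_mem q (gam_comm ha hb hy hz)
    · show (gam G (2 + p)).map q = ⊥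
      rw [Subgroup.map_eq_bot_iff, QuotientGroup.ker_mk']
  have hform := PolySeq.mul_pow_prime hF hp le_rfl rfl (mem_map_of_mem q hc2)
    (mem_map_of_mem q (show b ∈ gam G 1 from mem_top b)) (by
      rintro _ ⟨y, hy, rfl⟩
      rw [← map_pow, ← MonoidHom.mem_ker, QuotientGroup.ker_mk']
      have h1 := (h.pow_shift n 3 (by omega) (by omega) y hy).1
      rwa [show 2 + 1 + p - 1 = 2 + p by omega] at h1)
  have hiter : ∀ m, (fun y => ⁅y⁻¹, b⁆)^[m + 1] c ∈ gam G (m + 4) := by
    intro m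
    induction m with
    | zero =>
      rw [Function.iterate_one, ← commutatorElement_inv]
      exact inv_mem (hbT c⁻¹ (inv_mem hc2))
    | succ m ih =>
      rw [Function.iterate_succ_apply']
      exact gam_comm (a := m + 4) (by omega) le_rfl (inv_mem ih) (mem_top b)
  have hsemi : Function.Semiconj q (fun y => ⁅y⁻¹, b⁆) (fun y => ⁅y⁻¹, q b⁆) := fun y => by
    rw [map_commutatorElement, map_inv]
  have hzero : q ((fun y => ⁅y⁻¹, b⁆)^[p - 1] c) = 1 := by
    obtain ⟨m, hm⟩ : ∃ m, p - 1 = m + 1 := ⟨p - 2, by omega⟩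
    rw [hm]
    exact (QuotientGroup.eq_one_iff _).2 (gam_anti (by omega) (hiter m))
  rw [← (hsemi.iterate_right (p - 1)).eq, hzero, mul_one, ← map_mul, ← map_pow q (c * b),
    ← map_pow q b, ← map_pow q c, ← map_inv, ← map_mul,
    show c * b = g * b * g⁻¹ by rw [hc, commutatorElement_def]; group, conj_pow,
    show g * b ^ p * g⁻¹ * (b ^ p)⁻¹ = ⁅g, b ^ p⁆ by rw [commutatorElement_def],
    show q ⁅g, b ^ p⁆ = 1 from (QuotientGroup.eq_one_iff _).2 (by
      have := gam_comm (a := 1) (b := p + 1) le_rfl (by omega) (mem_top g) hbp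
      rwa [show 1 + (p + 1) = 2 + p by omega] at this)] at hform
  exact hcp ((QuotientGroup.eq_one_iff _).1 hform.symm)

/-- Some `p`-th power lies outside `γ_{p+1}`. -/
theorem exists_pow_notMem (hn : p + 2 ≤ n) : ∃ b : G, b ^ p ∉ gam G (p + 1) := by
  obtain ⟨b, -, hb⟩ := exists_pow_notMem_twoStep h hn
  exact ⟨b, hb⟩

omit h in
/-- A layer of index `p`. -/
theorem layer_of_card (hexp : ∀ q : G, q ^ p = 1) {K H : Subgroup G} {u : G} {w : ℕ} (hw : 1 ≤ w)
    (hle : H ≤ K) (hcard : Nat.card K ≤ p * Nat.card H) (hu : u ∈ K) (hu' : u ∉ H)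
    (huw : u ∈ gam G w) (hconj : ∀ z ∈ H, u⁻¹ * z * u ∈ H) (hlow : H ≤ gam G w)
    (hhigh : K ⊓ gam G (w + 1) ≤ H) : Layer p (gam G) K H u w := by
  have hp := (Fact.out : p.Prime)
  have hfree : ∀ j, 0 < j → j < p → u ^ j ∉ H := by
    intro j hj hjp hmem
    obtain ⟨m, -, hm⟩ := Nat.exists_mul_mod_eq_one_of_coprime
      (Nat.coprime_of_lt_prime hj.ne' hjp hp).symm hp.one_lt
    refine hu' ?_
    have h1 := pow_mem hmem m
    rwa [← pow_mul, pow_eq_pow_mod (j * m) (hexp u), hm, pow_one] at h1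
  refine ⟨fun q => mem_top q, fun a b hab => gam_anti hab, fun a b ha hb y hy z hz => ?_, hle, hu,
    huw, hexp u, hw, ?_, hconj, fun z hz => hlow hz,
    fun a ha g hg hga => hhigh ⟨hg, gam_anti (show w + 1 ≤ a by omega) hga⟩, hfree⟩
  · have h1 := gam_comm ha hb (inv_mem hy) (inv_mem hz)
    rwa [commutatorElement_def, inv_inv, inv_inv] at h1
  let φ : Fin p × H → K := fun t => ⟨u ^ (t.1 : ℕ) * t.2, mul_mem (pow_mem hu _) (hle t.2.2)⟩
  have hkey : ∀ i j : Fin p, ∀ a b : H, u ^ (i : ℕ) * a = u ^ (j : ℕ) * b → (i : ℕ) ≤ j → i = j := by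
    intro i j a b e hij
    by_contra hne
    refine hfree ((j : ℕ) - i) (by
      have : (i : ℕ) ≠ j := fun e' => hne (Fin.ext e')
      omega) (by omega) ?_
    have e' : u ^ ((j : ℕ) - i) = a * (b : G)⁻¹ := by
      obtain ⟨d, hd⟩ := Nat.le.dest hij
      rw [← hd, pow_add, mul_assoc, mul_left_cancel_iff] at e
      rw [← hd, Nat.add_sub_cancel_left, e, mul_inv_cancel_right]
    rw [e']
    exact mul_mem a.2 (inv_mem b.2)
  have hinj : Function.Injective φ := by
    rintro ⟨i, a⟩ ⟨j, b⟩ e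
    have e' : u ^ (i : ℕ) * a = u ^ (j : ℕ) * b := congrArg Subtype.val e
    have hij : i = j := by
      rcases le_total (i : ℕ) j with hle' | hle'
      · exact hkey i j a b e' hle'
      · exact (hkey j i b a e'.symm hle').symm
    subst hij
    rw [mul_left_cancel_iff, Subtype.coe_inj] at e'
    rw [e']
  have hbij : Function.Bijective φ := hinj.bijective_of_nat_card_le (by
    rw [Nat.card_prod, Nat.card_fin]
    exact hcard)
  intro g hg
  obtain ⟨⟨i, a⟩, e⟩ := hbij.2 ⟨g, hg⟩
  exact ⟨i, a, a.2, (congrArg Subtype.val e).symm⟩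

/-- A group of maximal class and order `p ^ (p + 1)` does not have exponent `p`. -/
theorem exists_pow_ne_one (hn : n = p + 1) : ∃ g : G, g ^ p ≠ 1 := by
  have hp := (Fact.out : p.Prime)
  have hp2 := hp.two_le
  by_contra hexp
  push Not at hexp
  obtain ⟨c, hc, hc'⟩ := exists_mem_layer h (k := 2) le_rfl (by omega)
  obtain ⟨g, hg⟩ := h.exists_conj hc
  have hgc : ⁅g⁻¹⁻¹, x⁆ = c := by
    rw [inv_inv, commutatorElement_def, hg, mul_inv_cancel_right]
  obtain ⟨m, hm⟩ : ∃ m, p - 1 = m + 1 := ⟨p - 2, by omega⟩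
  set e := (fun y : G => ⁅y⁻¹, x⁆)^[p - 1] g⁻¹ with hedef
  have hee : e = (fun y : G => ⁅y⁻¹, x⁆)^[m] c := by
    rw [hedef, hm, Function.iterate_succ_apply, hgc]
  obtain ⟨he1, he2⟩ := h.iterate_comm le_rfl hc m
  rw [← hee, show 2 + m = p by omega] at he1 he2
  have he3 : e ∉ gam G (p + 1) := he2 hc' (by omega)
  have heng : dl p e ∈ W p (gam G) ⊤ (p + 1) := by
    have := engel (p := p) (N := gam G) (fun q => mem_top q)
      (fun a b ha hb y hy z hz => gam_comm ha hb hy hz) hexp g⁻¹ x⁻¹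
    simpa only [inv_inv] using this
  -- the intermediate subgroup
  obtain ⟨M, hM, hgM⟩ := Sylow.exists_subgroup_card_pow_prime_le p (m := n - 1)
    (by rw [h.card]; exact pow_dvd_pow p (by omega)) (gam G 2) (h.card_gam le_rfl (by omega))
    (by omega)
  have hconjM : ∀ u : G, ∀ z ∈ M, u⁻¹ * z * u ∈ M := fun u z hz => by
    have h1 := mul_mem (hgM (gam_comm (a := 1) (b := 1) le_rfl le_rfl (mem_top u⁻¹) (mem_top z))) hz
    rwa [commutatorElement_def, inv_inv, inv_mul_cancel_right] at h1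
  obtain ⟨u0, hu0⟩ : ∃ u, u ∉ M := by
    by_contra hcon
    push Not at hcon
    rw [(eq_top_iff' M).2 hcon, card_top, h.card] at hM
    have := Nat.pow_right_injective hp.two_le hM
    omega
  obtain ⟨u1, hu1, hu1'⟩ := SetLike.not_le_iff_exists.1 (fun hle : M ≤ gam G 2 => by
    have := Subgroup.card_le_of_le hle
    rw [hM, h.card_gam le_rfl (by omega)] at this
    have := (Nat.pow_le_pow_iff_right hp.one_lt).1 this
    omega)
  have hsupp : ∀ H : Subgroup G, e ∈ H → dl p e ∈ supp p H := fun H he =>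
    W_le_supp H 1 (dl_mem (N := gam G) he (mem_top e) le_rfl)
  have L0 := layer_of_card (K := ⊤) (H := M) (u := u0) (w := 1) hexp le_rfl le_top
    (by rw [card_top, h.card, hM, ← pow_succ']; exact le_of_eq (congrArg _ (by omega)))
    (mem_top _) hu0 (mem_top _) (hconjM u0) le_top (fun z hz => hgM hz.2)
  have L1 := layer_of_card (K := M) (H := gam G 2) (u := u1) (w := 1) hexp le_rfl hgM
    (by rw [hM, h.card_gam le_rfl (by omega), ← pow_succ']; exact le_of_eq (congrArg _ (by omega)))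
    hu1 hu1' (mem_top _) (fun z hz => by
      simpa [mul_assoc] using (gam_normal (G := G) 2).conj_mem z hz u1⁻¹) le_top inf_le_right
  have layer : ∀ j, 2 ≤ j → j ≤ p → ∀ u, u ∈ gam G j → u ∉ gam G (j + 1) →
      Layer p (gam G) (gam G j) (gam G (j + 1)) u j := fun j h2 hjp u hu hu' =>
    layer_of_card hexp (by omega) (gam_anti (Nat.le_succ j))
      (by rw [h.card_gam h2 (by omega), h.card_gam (by omega) (by omega), ← pow_succ']
          exact le_of_eq (congrArg _ (by omega)))
      hu hu' hu (fun z hz => by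
        simpa [mul_assoc] using (gam_normal (G := G) (j + 1)).conj_mem z hz u⁻¹)
      (gam_anti (Nat.le_succ j)) inf_le_right
  have hdesc : ∀ j, 2 ≤ j → j ≤ p → dl p e ∈ W p (gam G) (gam G j) (p + 1) := by
    intro j h2
    induction j, h2 using Nat.le_induction with
    | base =>
      intro _
      exact L1.descend (L0.descend heng (hsupp M (hgM (gam_anti (by omega) he1))))
        (hsupp _ (gam_anti (by omega) he1))
    | succ j hj ih =>
      intro hjp
      obtain ⟨u, hu, hu'⟩ := exists_mem_layer h (k := j) hj (by omega)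
      exact (layer j hj (by omega) u hu hu').descend (ih (by omega))
        (hsupp _ (gam_anti hjp he1))
  exact (layer p hp2 le_rfl e he1 he3).dl_notMem (h.gam_eq_bot (by omega)) (Nat.lt_succ_self p)
    (hdesc p hp2 le_rfl)

omit h in
theorem eq_top_of_sup_gam (hn : Nat.card G = p ^ n) {H : Subgroup G} (hH : H ⊔ gam G 2 = ⊤) :
    H = ⊤ := by
  have hp := (Fact.out : p.Prime)
  by_contra hne
  obtain ⟨a, -, ha⟩ := (Nat.dvd_prime_pow hp).1 (hn ▸ H.card_subgroup_dvd_card)
  have han : a < n := by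
    by_contra hle
    exact hne (eq_top_of_le_card _ (by rw [hn, ha]; exact Nat.pow_le_pow_right hp.pos (by omega)))
  obtain ⟨M, hM, hHM⟩ := Sylow.exists_subgroup_card_pow_prime_le p (m := n - 1)
    (by rw [hn]; exact pow_dvd_pow p (by omega)) H ha (by omega)
  have hidx : M.index = p := by
    have e := M.card_mul_index
    rw [hn, hM, show p ^ n = p ^ (n - 1) * p by rw [← pow_succ]; congr 1; omega] at e
    exact Nat.eq_of_mul_eq_mul_left (pow_pos hp.pos _) e
  haveI : M.Normal := normal_of_index_eq_minFac_card (by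
    rw [hidx, hn, Nat.pow_minFac (by omega), hp.minFac_eq])
  haveI : IsCyclic (G ⧸ M) := isCyclic_of_prime_card (p := p) (by rw [← index_eq_card, hidx])
  letI := IsCyclic.commGroup (α := G ⧸ M)
  have hgM : gam G 2 ≤ M := by
    show ⁅(⊤ : Subgroup G), ⊤⁆ ≤ M
    refine commutator_le.2 fun y _ z _ => ?_
    rw [← QuotientGroup.eq_one_iff, ← QuotientGroup.mk'_apply, map_commutatorElement,
      commutatorElement_eq_one_iff_mul_comm]
    exact mul_comm _ _
  have hMtop : M = ⊤ := top_le_iff.1 (hH ▸ sup_le hHM hgM)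
  rw [hMtop, index_top] at hidx
  exact hp.one_lt.ne hidx

omit h in
/-- `|H : ℧₁(H)| ≤ p ^ p`. -/
theorem relIndex_agm_le (hn : Nat.card G = p ^ n) (h2 : 2 ≤ n)
    (hcl : Group.nilpotencyClass G = n - 1) (H : Subgroup G) : (agm p H).relIndex H ≤ p ^ p := by
  have hp := (Fact.out : p.Prime)
  have hp2 := hp.two_le
  have hKH := agm_le (p := p) H
  have e := relIndex_mul_relIndex ⊥ (agm p H) H bot_le hKH
  rw [relIndex_bot_left, relIndex_bot_left] at e
  refine Nat.le_of_mul_le_mul_left ?_ (Nat.card_pos (α := agm p H))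
  rw [e]
  rcases le_or_gt n p with hsmall | hbig
  · calc Nat.card H ≤ Nat.card G := H.card_le_card_group
      _ ≤ p ^ p := hn ▸ Nat.pow_le_pow_right hp.pos hsmall
      _ ≤ _ := Nat.le_mul_of_pos_left _ Nat.card_pos
  obtain ⟨x, hx, -⟩ := MaxClassUniform.exists_uniform n G (IsPGroup.of_card hn) hn (by omega) hcl ⊥
    (fun e1 => by
      have := (card_top (G := G)).trans hn
      rw [← e1, card_bot] at this
      exact (Nat.one_lt_pow (by omega) hp.one_lt).ne this)
  by_cases hH : H ⊔ gam G 2 = ⊤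
  · obtain rfl := eq_top_of_sup_gam hn hH
    rw [card_top, hn]
    suffices hsuff : p ^ (n - p) ≤ Nat.card (agm p (⊤ : Subgroup G)) from
      calc p ^ n = p ^ (n - p) * p ^ p := by rw [← pow_add]; congr 1; omega
        _ ≤ _ := Nat.mul_le_mul_right _ hsuff
    rcases (show n = p + 1 ∨ p + 2 ≤ n by omega) with hn1 | hn1
    · obtain ⟨g, hg⟩ := exists_pow_ne_one hx hn1
      have := mul_card_le_of_lt hn bot_le (pow_mem_agm (p := p) (mem_top g))
        (fun hh => hg (mem_bot.1 hh))
      rw [card_bot, mul_one] at this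
      rw [show n - p = 1 by omega, pow_one]
      exact this
    · obtain ⟨b, hb⟩ := exists_pow_notMem hx hn1
      have := mul_card_le_of_lt hn (gam_le_agm hx (by omega)) (pow_mem_agm (p := p) (mem_top b)) hb
      rwa [hx.card_gam (by omega) (by omega), ← pow_succ', show n - (p + 1) + 1 = n - p by omega]
        at this
  -- `γ₂` has index at most `p` in `H`
  set S := H ⊔ gam G 2
  have hrel : (gam G 2).relIndex S ≤ p := by
    have e1 := relIndex_mul_index (le_sup_right : gam G 2 ≤ S)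
    rw [hx.index_gam le_rfl (by omega)] at e1
    obtain ⟨i, hi2, hi⟩ := (Nat.dvd_prime_pow hp).1 (Dvd.intro_left _ e1)
    have hi0 : i ≠ 0 := by
      rintro rfl
      exact hH (index_eq_one.1 (by rw [hi, pow_zero]))
    have : p ≤ S.index := hi ▸ Nat.le_self_pow hi0 p
    nlinarith
  have h1 := card_inf_le (le_sup_right : gam G 2 ≤ S) H
  rw [inf_eq_left.2 (le_sup_left : H ≤ S)] at h1
  have h3 := card_inf_gam_le hx H n 2 le_rfl (by omega)
  calc Nat.card H ≤ Nat.card ↥(H ⊓ gam G 2) * p := h1.trans (Nat.mul_le_mul_left _ hrel)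
    _ ≤ Nat.card ↥(agm p H ⊓ gam G (2 + p - 1)) * p ^ (p - 1) * p := Nat.mul_le_mul_right _ h3
    _ = Nat.card ↥(agm p H ⊓ gam G (2 + p - 1)) * p ^ p := by
        rw [mul_assoc, ← pow_succ, show p - 1 + 1 = p by omega]
    _ ≤ _ := Nat.mul_le_mul_right _ (Subgroup.card_le_of_le inf_le_left)

end CfsgLib.MaxClassAgemo
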